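import Mathlib

/-! Homogeneous expansions in a ℤ-graded algebra with respect to generators of the positive ideal. -/

universe u

namespace H1PosIdeal

variable {R A : Type u} [CommRing R] [CommRing A] [Algebra R A]
    (𝒜 : ℤ → Submodule R A) [GradedAlgebra 𝒜]
    {p : ℕ} (f : Fin p → A) (deg : Fin p → ℤ)

theorem exists_expansion (hf : ∀ i, f i ∈ 𝒜 (deg i))
    (hgen : Ideal.span {a : A | ∃ n : ℤ, 0 < n ∧ a ∈ 𝒜 n} = Ideal.span (Set.range f))
    {N : ℤ} (hN : 0 < N) {a : A} (ha : a ∈ 𝒜 N) :
    ∃ c : Fin p → A, (∀ i, c i ∈ 𝒜 (N - deg i)) ∧ a = ∑ i, c i * f i := by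
  classical
  have hmem : a ∈ Ideal.span (Set.range f) := hgen ▸ Ideal.subset_span ⟨N, hN, ha⟩
  obtain ⟨c, hc⟩ := (Ideal.mem_span_range_iff_exists_fun).1 hmem
  refine ⟨fun i => (DirectSum.decompose 𝒜 (c i) (N - deg i) : A), fun i => SetLike.coe_mem _, ?_⟩
  calc a = (DirectSum.decompose 𝒜 a N : A) := by rw [DirectSum.decompose_of_mem_same 𝒜 ha]
    _ = ∑ i, (DirectSum.decompose 𝒜 (c i * f i) N : A) := by
      rw [← hc, DirectSum.decompose_sum]
      simp
    _ = ∑ i, (DirectSum.decompose 𝒜 (c i) (N - deg i) : A) * f i := by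
      refine Finset.sum_congr rfl fun i _ => ?_
      have h := DirectSum.coe_decompose_mul_add_of_right_mem 𝒜 (i := N - deg i) (a := c i) (hf i)
      rwa [sub_add_cancel] at h

theorem mem_pow_of_lt (hf : ∀ i, f i ∈ 𝒜 (deg i))
    (hgen : Ideal.span {a : A | ∃ n : ℤ, 0 < n ∧ a ∈ 𝒜 n} = Ideal.span (Set.range f))
    (D : ℤ) (hD0 : 0 ≤ D) (hD : ∀ i, deg i ≤ D) (n : ℕ) :
    ∀ N : ℤ, n * D < N → ∀ a ∈ 𝒜 N, a ∈ Ideal.span (Set.range f) ^ n := by
  induction n with
  | zero => intro N _ a _; simp
  | succ n ih =>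
    intro N hN a ha
    have hn : (0 : ℤ) ≤ n * D := mul_nonneg (by positivity) hD0
    push_cast at hN
    obtain ⟨c, hc, rfl⟩ := exists_expansion 𝒜 f deg hf hgen (N := N) (by nlinarith) ha
    rw [pow_succ]
    refine Ideal.sum_mem _ fun i _ => Ideal.mul_mem_mul (ih _ (by have := hD i; nlinarith) _ (hc i))
      (Ideal.subset_span ⟨i, rfl⟩)

theorem prod_pow_mem (hf : ∀ i, f i ∈ 𝒜 (deg i)) (e : Fin p → ℕ) :
    ∏ i, f i ^ e i ∈ 𝒜 (∑ i, (e i : ℤ) * deg i) := by
  classical
  have : ∀ s : Finset (Fin p), ∏ i ∈ s, f i ^ e i ∈ 𝒜 (∑ i ∈ s, (e i : ℤ) * deg i) := by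
    intro s
    induction s using Finset.induction with
    | empty => simpa using SetLike.GradedOne.one_mem (A := 𝒜)
    | insert i s hi ih =>
      rw [Finset.prod_insert hi, Finset.sum_insert hi]
      refine SetLike.mul_mem_graded ?_ ih
      simpa [nsmul_eq_mul] using SetLike.pow_mem_graded (e i) (hf i)
  exact this _

theorem monomial_mul_mem (hdeg : ∀ i, 0 < deg i) (hf : ∀ i, f i ∈ 𝒜 (deg i))
    (hgen : Ideal.span {a : A | ∃ n : ℤ, 0 < n ∧ a ∈ 𝒜 n} = Ideal.span (Set.range f))
    (d : ℤ) (hd : 0 < d) (hdvd : ∀ i, deg i ∣ d) (N : ℤ) (hN : d * p - ∑ i, deg i < N) :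
    ∀ (k : ℕ) (e : Fin p → ℕ) (a : A), (N - ∑ i, (e i : ℤ) * deg i).toNat ≤ k →
      a ∈ 𝒜 (N - ∑ i, (e i : ℤ) * deg i) →
      (∏ i, f i ^ e i) * a ∈ 𝒜 d * 𝒜 (N - d) := by
  classical
  intro k
  induction k using Nat.strong_induction_on with
  | _ k ih =>
    intro e a hk ha
    by_cases hb : ∃ i, d ≤ (e i : ℤ) * deg i
    · obtain ⟨i, hi⟩ := hb
      obtain ⟨q, hq⟩ := hdvd i
      have hq0 : 0 < q := by
        by_contra hc
        have := hdeg i
        nlinarith
      lift q to ℕ using hq0.le with q'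
      have hle : q' ≤ e i := by
        have := hdeg i
        have : (q' : ℤ) ≤ e i := by
          by_contra hc
          rw [not_le] at hc
          nlinarith
        exact_mod_cast this
      let e' := Function.update e i (e i - q')
      have hprod : ∏ j, f j ^ e j = f i ^ q' * ∏ j, f j ^ e' j := by
        rw [← Finset.mul_prod_erase _ _ (Finset.mem_univ i),
          ← Finset.mul_prod_erase _ (fun j => f j ^ e' j) (Finset.mem_univ i), ← mul_assoc]
        congr 1
        · rw [← pow_add]; congr 1; simp only [e', Function.update_self]; omega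
        · refine Finset.prod_congr rfl fun j hj => ?_
          simp [e', Finset.ne_of_mem_erase hj]
      have hsum : ∑ j, (e j : ℤ) * deg j = d + ∑ j, (e' j : ℤ) * deg j := by
        rw [← Finset.add_sum_erase _ _ (Finset.mem_univ i),
          ← Finset.add_sum_erase _ (fun j => (e' j : ℤ) * deg j) (Finset.mem_univ i), ← add_assoc]
        congr 1
        · simp only [e', Function.update_self, Nat.cast_sub hle, hq]; ring
        · refine Finset.sum_congr rfl fun j hj => ?_
          simp [e', Finset.ne_of_mem_erase hj]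
      rw [hprod, mul_assoc]
      refine Submodule.mul_mem_mul ?_ ?_
      · have h := SetLike.pow_mem_graded q' (hf i)
        rwa [nsmul_eq_mul, mul_comm, ← hq] at h
      · have h := SetLike.mul_mem_graded (prod_pow_mem 𝒜 f deg hf e') ha
        rwa [hsum, show ∑ j, (e' j : ℤ) * deg j + (N - (d + ∑ j, (e' j : ℤ) * deg j)) = N - d by
          ring] at h
    · push Not at hb
      have hbd : ∀ i, (e i : ℤ) * deg i ≤ d - deg i := fun i => by
        obtain ⟨q, hq⟩ := hdvd i
        have := hdeg i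
        have h1 := hb i
        rw [hq] at h1 ⊢
        have : (e i : ℤ) < q := by
          by_contra hc
          rw [not_lt] at hc
          nlinarith
        nlinarith
      have hpos : 0 < N - ∑ i, (e i : ℤ) * deg i := by
        have := Finset.sum_le_sum (s := Finset.univ) fun i _ => hbd i
        rw [Finset.sum_sub_distrib, Finset.sum_const, Finset.card_univ, Fintype.card_fin,
          nsmul_eq_mul, mul_comm] at this
        linarith
      obtain ⟨c, hc, rfl⟩ := exists_expansion 𝒜 f deg hf hgen hpos ha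
      rw [Finset.mul_sum]
      refine Submodule.sum_mem _ fun i _ => ?_
      let e' := Function.update e i (e i + 1)
      have hsum : ∑ j, (e' j : ℤ) * deg j = ∑ j, (e j : ℤ) * deg j + deg i := by
        rw [← Finset.add_sum_erase _ _ (Finset.mem_univ i),
          ← Finset.add_sum_erase _ (fun j => (e j : ℤ) * deg j) (Finset.mem_univ i)]
        have : ∑ j ∈ Finset.univ.erase i, (e' j : ℤ) * deg j
            = ∑ j ∈ Finset.univ.erase i, (e j : ℤ) * deg j :=
          Finset.sum_congr rfl fun j hj => by simp [e', Finset.ne_of_mem_erase hj]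
        rw [this]
        simp only [e', Function.update_self]
        push_cast
        ring
      have hprod : ∏ j, f j ^ e' j = (∏ j, f j ^ e j) * f i := by
        rw [← Finset.mul_prod_erase _ _ (Finset.mem_univ i),
          ← Finset.mul_prod_erase _ (fun j => f j ^ e j) (Finset.mem_univ i)]
        have : ∏ j ∈ Finset.univ.erase i, f j ^ e' j = ∏ j ∈ Finset.univ.erase i, f j ^ e j :=
          Finset.prod_congr rfl fun j hj => by simp [e', Finset.ne_of_mem_erase hj]
        rw [this]
        simp only [e', Function.update_self, pow_succ]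
        ring
      rw [show (∏ j, f j ^ e j) * (c i * f i) = (∏ j, f j ^ e' j) * c i by rw [hprod]; ring]
      refine ih ((N - ∑ j, (e' j : ℤ) * deg j).toNat) ?_ e' (c i) le_rfl ?_
      · have := hdeg i
        rw [hsum]
        omega
      · rw [hsum, ← sub_sub]
        exact hc i

theorem piece_eq_mul (hdeg : ∀ i, 0 < deg i) (hf : ∀ i, f i ∈ 𝒜 (deg i))
    (hgen : Ideal.span {a : A | ∃ n : ℤ, 0 < n ∧ a ∈ 𝒜 n} = Ideal.span (Set.range f))
    (d : ℤ) (hd : 0 < d) (hdvd : ∀ i, deg i ∣ d) (N : ℤ) (hN : d * p - ∑ i, deg i < N) :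
    𝒜 N = 𝒜 d * 𝒜 (N - d) := by
  refine le_antisymm (fun a ha => ?_) (Submodule.mul_le.2 fun x hx y hy => ?_)
  · simpa using monomial_mul_mem 𝒜 f deg hdeg hf hgen d hd hdvd N hN _ (fun _ => 0) a le_rfl
      (by simpa using ha)
  · simpa using SetLike.mul_mem_graded hx hy

end H1PosIdeal
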